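import Groth.Agent.H58.HZ.OpenEmb
import Groth.Agent.H88.TildeSuppFamily
import Groth.Agent.H88.ExtCechSupp
import Groth.Agent.H88.ExtCechLC
import Groth.Agent.H49.SectionsExact
import Groth.Prelude.Def_Coh

/-!
# The affine bridge: cohomology with supports of a quasi-coherent module over an affine open
is ring-level local cohomology
-/

set_option autoImplicit false
universe u
open CategoryTheory Limits TopologicalSpace Opposite Abelian AlgebraicGeometry

namespace Groth.Agent.H58.HZ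

variable (X : Scheme.{u}) (M : X.Modules) (V : X.Opens) (hV : IsAffineOpen V) (U : X.Opens)

/-- `(toAb M)|_{Spec Γ(V)} = toAb (M|_{Spec Γ(V)})`. -/
noncomputable def toAbRestrictIso :
    (restrEmb hV.fromSpec.base hV.fromSpec.isOpenEmbedding).obj (Coh.toAb M) ≅
      Coh.toAb (M.restrict hV.fromSpec) :=
  ObjectProperty.isoMk _ (Iso.refl _)

theorem map_fromSpec_inf : (Opens.map hV.fromSpec.base).obj (V ⊓ U) = hV.fromSpec ⁻¹ᵁ U := by
  apply Opens.ext
  ext x
  constructor
  · intro hx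
    exact hx.2
  · intro hx
    refine ⟨?_, hx⟩
    have : hV.fromSpec x ∈ Set.range hV.fromSpec := Set.mem_range_self x
    rw [hV.range_fromSpec] at this
    exact this

/-- Step 1: pass to `Spec Γ(X, V)`. -/
theorem nonempty_HZ_equiv_HZM_restrict (i : ℕ) :
    Nonempty (LocCohZ.HZ (Coh.toAb M) i (inf_le_left : V ⊓ U ≤ V) ≃+
      LocCohZ.HZM (Spec Γ(X, V)) (M.restrict hV.fromSpec) i (hV.fromSpec ⁻¹ᵁ U)) := by
  obtain ⟨e1⟩ := nonempty_HZ_equiv_restrEmb hV.fromSpec.base hV.fromSpec.isOpenEmbedding V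
    hV.range_fromSpec (Coh.toAb M) (inf_le_left : V ⊓ U ≤ V) i
  rw [map_fromSpec_inf] at e1
  obtain ⟨e2⟩ := Groth.Agent.H88.nonempty_ext_equiv_of_iso
    (LocCohZ.zq (le_top : hV.fromSpec ⁻¹ᵁ U ≤ ⊤)) (toAbRestrictIso X M V hV) i
  exact ⟨e1.trans e2⟩

end Groth.Agent.H58.HZ

namespace Groth.Agent.H58.HZ

open Groth.Agent.H88

/-- Step 2: on `Spec R` (Noetherian), cohomology with supports of a quasi-coherent module is local
cohomology of its module of global sections. -/
theorem nonempty_HZM_equiv_localCohomology (R : CommRingCat.{u}) [IsNoetherianRing R]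
    (G : (Spec R).Modules) [G.IsQuasicoherent] (fs : List R) (i : ℕ) :
    Nonempty (LocCohZ.HZM (Spec R) G i (punct fs) ≃+
      ((localCohomology (Ideal.span {x : R | x ∈ fs}) i).obj
        ((modulesSpecToSheaf.obj G).presheaf.obj (op ⊤)) : Type u)) := by
  let N : ModuleCat.{u} R := (modulesSpecToSheaf.obj G).presheaf.obj (op ⊤)
  haveI : IsIso G.fromTildeΓ := Scheme.Modules.isIso_fromTildeΓ_of_isQuasicoherent (R := R) G
  let e0 : tilde N ≅ G := asIso G.fromTildeΓ
  let e0' : Coh.toAb (tilde N) ≅ Coh.toAb G :=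
    (SheafOfModules.toSheaf (Spec R).ringCatSheaf).mapIso e0
  obtain ⟨e1⟩ := nonempty_ext_equiv_of_iso (LocCohZ.zq (le_top : punct fs ≤ ⊤)) e0' i
  obtain ⟨e2⟩ := IsSuppCohFamily.nonempty_addEquiv (isSuppCohFamily_HZM R fs)
    (isSuppCohFamily_extCech (R := R) fs) i N
  obtain ⟨e3⟩ := nonempty_extCechH_equiv_localCohomology (R := R) fs i N
  exact ⟨e1.symm.trans (e2.trans e3.toAddEquiv)⟩

end Groth.Agent.H58.HZ
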