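import Groth.Agent.H30.SectSuppV
import Groth.Agent.H30.LocalExact

/-!
# Vanishing of the local cohomology sheaves `ℋ^i_Z(F)` can be checked on a basis

* `HZsh_isZero_of_basis`: if `H^i_{Z ∩ V}(V, F) = 0` for all `i < n` and all `V` in a basis, then
  `ℋ^i_Z(F) = 0` for all `i < n`.
* `isZero_HZsh_of_basis`: single degree version.
-/

set_option autoImplicit false
universe u
open CategoryTheory Limits TopologicalSpace Opposite Abelian

namespace Groth.Agent.H58.HZ

open Groth.Agent.H30 Groth.Agent.H30.SectSuppV Groth.Agent.H30.FlasqueAcyclic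
  Groth.Agent.H30.SectSupp

variable {X : TopCat.{u}} (U : Opens X)

/-- A sheaf all of whose `Hom(ℤ_V, -)`, `V` in a basis, vanish is zero. -/
lemma isZero_of_subsingleton_hom_basis (B : Set (Opens X)) (hB : Opens.IsBasis B)
    (G : CohTop.Ab X) (h : ∀ V ∈ B, Subsingleton (zV V ⟶ G)) :
    IsZero G := by
  have hsec : ∀ V ∈ B, ∀ s : G.obj.obj (op V), s = 0 := by
    intro V hV s
    have := h V hV
    have h1 : CohFree.ofSect (Opens.grothendieckTopology X) V G s =
        CohFree.ofSect (Opens.grothendieckTopology X) V G 0 := Subsingleton.elim _ _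
    have h2 := congrArg (CohFree.evalGen (Opens.grothendieckTopology X) V G) h1
    rw [CohFree.evalGen_ofSect, CohFree.evalGen_ofSect] at h2
    exact h2
  rw [IsZero.iff_id_eq_zero]
  apply Sheaf.hom_ext
  apply NatTrans.ext
  funext W
  ext s
  obtain ⟨W⟩ := W
  have hs0 : s = 0 := by
    apply TopCat.Presheaf.IsSheaf.section_ext
      ((TopCat.Presheaf.isSheaf_iff_isSheaf_comp (forget AddCommGrpCat) G.obj).1 G.property)
    intro x hx
    obtain ⟨V, hVB, hxV, hVW⟩ := Opens.isBasis_iff_nbhd.1 hB hx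
    refine ⟨V, hVW, hxV, ?_⟩
    exact (hsec V hVB _).trans (hsec V hVB _).symm
  rw [hs0]
  simp

section LowDegree

variable [HasDerivedCategory.{u + 1} (CohTop.Ab X)] [HasDerivedCategory.{u + 1} AddCommGrpCat.{u}]

/-- If `H^i_{Z ∩ V}(V, F) = 0` for `i < n` and all `V` in a basis, then the local cohomology sheaves
`ℋ^i_Z(F)` vanish for `i < n`. -/
theorem HZsh_isZero_of_basis' (B : Set (Opens X)) (hB : Opens.IsBasis B)
    (F : CohTop.Ab X) (n : ℕ)
    (h : ∀ V ∈ B, ∀ i : ℕ, i < n → Subsingleton (LocCohZ.HZ F i (inf_le_left : V ⊓ U ≤ V))) :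
    ∀ i : ℕ, i < n → IsZero ((LocCohZ.HZsh U i).obj F) := by
  intro i
  induction i using Nat.strong_induction_on with
  | _ i ih =>
    intro hi
    apply isZero_of_subsingleton_hom_basis B hB
    intro V hVB
    obtain ⟨e⟩ := nonempty_HZ_iso U V F i
    obtain ⟨e'⟩ := (Degenerate.lowDegree (LocCohZ.sectSuppF U)
      (preadditiveCoyoneda.obj (op (zV V))) (hT U V) F i
      (fun q hq => ih q hq (hq.trans hi))).2
    have := h V hVB i hi
    have hz : IsZero (AddCommGrpCat.of (LocCohZ.HZ F i (inf_le_left : V ⊓ U ≤ V))) :=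
      AddCommGrpCat.isZero_of_subsingleton _
    have hz' := hz.of_iso (e ≪≫ e').symm
    exact AddCommGrpCat.subsingleton_of_isZero hz'

end LowDegree

theorem HZsh_isZero_of_basis (B : Set (Opens X)) (hB : Opens.IsBasis B)
    (F : CohTop.Ab X) (n : ℕ)
    (h : ∀ V ∈ B, ∀ i : ℕ, i < n → Subsingleton (LocCohZ.HZ F i (inf_le_left : V ⊓ U ≤ V))) :
    ∀ i : ℕ, i < n → IsZero ((LocCohZ.HZsh U i).obj F) := by
  let _ : HasDerivedCategory.{u + 1} (CohTop.Ab X) := HasDerivedCategory.standard _
  let _ : HasDerivedCategory.{u + 1} AddCommGrpCat.{u} := HasDerivedCategory.standard _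
  exact HZsh_isZero_of_basis' U B hB F n h

end Groth.Agent.H58.HZ
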