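import Groth.Agent.H58.HZ.Basis

/-!
# Single degree: `ℋ^i_Z(F) = 0` if `H^i_{Z ∩ V}(V, F) = 0` for all `V` in a basis
-/

set_option autoImplicit false
universe u
open CategoryTheory Limits TopologicalSpace Opposite Abelian

namespace Groth.Agent.H58.HZ

open Groth.Agent.H30 Groth.Agent.H30.SectSuppV Groth.Agent.H30.FlasqueAcyclic
  Groth.Agent.H30.SectSupp

variable {X : TopCat.{u}} (U : Opens X)

/-- sections of `Γ_Z(G)` over `V` as maps `ℤ_V/ℤ_{V ∩ U} ⟶ G`. -/
noncomputable def secEquiv (G : CohTop.Ab X) (V : Opens X) :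
    ((LocCohZ.sectSuppF U).obj G).obj.obj (op V) ≃+
      (LocCohZ.zq (inf_le_left : V ⊓ U ≤ V) ⟶ G) :=
  (CohFree.homEquivSect (Opens.grothendieckTopology X) V
    ((LocCohZ.sectSuppF U).obj G)).symm.trans (θEquiv U V G)

lemma secEquiv_apply (G : CohTop.Ab X) (V : Opens X)
    (s : ((LocCohZ.sectSuppF U).obj G).obj.obj (op V)) :
    secEquiv U G V s = θFwd U V G (CohFree.ofSect (Opens.grothendieckTopology X) V
      ((LocCohZ.sectSuppF U).obj G) s) := rfl

lemma secEquiv_naturality {G G' : CohTop.Ab X} (g : G ⟶ G') (V : Opens X)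
    (s : ((LocCohZ.sectSuppF U).obj G).obj.obj (op V)) :
    secEquiv U G' V ((((LocCohZ.sectSuppF U).map g).hom.app (op V)).hom s) =
      secEquiv U G V s ≫ g := by
  have key : CohFree.ofSect (Opens.grothendieckTopology X) V ((LocCohZ.sectSuppF U).obj G')
      ((((LocCohZ.sectSuppF U).map g).hom.app (op V)).hom s) =
      CohFree.ofSect (Opens.grothendieckTopology X) V ((LocCohZ.sectSuppF U).obj G) s ≫
        (LocCohZ.sectSuppF U).map g := by
    apply evalGen_injective
    exact (CohFree.evalGen_ofSect _ _ _ _).trans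
      (congrArg (fun t => (((LocCohZ.sectSuppF U).map g).hom.app (op V)).hom t)
        (CohFree.evalGen_ofSect _ _ _ s)).symm
  rw [secEquiv_apply, secEquiv_apply, key]
  exact SectSuppV.θFwd_naturality U V g _

/-- If `H^{j+1}_{Z ∩ V}(V, F) = 0` for all `V` in a basis, then `ℋ^{j+1}_Z(F) = 0`. -/
theorem isZero_HZsh_succ_of_basis (B : Set (Opens X)) (hB : Opens.IsBasis B)
    (F : CohTop.Ab X) (j : ℕ)
    (h : ∀ V ∈ B, Subsingleton (LocCohZ.HZ F (j + 1) (inf_le_left : V ⊓ U ≤ V))) :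
    IsZero ((LocCohZ.HZsh U (j + 1)).obj F) := by
  let I := injectiveResolution F
  let K := ((LocCohZ.sectSuppF U).mapHomologicalComplex _).obj I.cocomplex
  refine IsZero.of_iso ?_ (I.isoRightDerivedObj (LocCohZ.sectSuppF U) (j + 1))
  have hex : K.ExactAt (j + 1) := by
    rw [HomologicalComplex.exactAt_iff' K j (j + 1) (j + 2) (by simp) (by simp)]
    apply LocalExact.exact_of_locally
    intro V σ hσ y hy
    obtain ⟨V', hV'B, hyV', hV'V⟩ := Opens.isBasis_iff_nbhd.1 hB hy
    refine ⟨V', hV'V, hyV', ?_⟩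
    have := h V' hV'B
    let σ₀ : ((LocCohZ.sectSuppF U).obj (I.cocomplex.X (j + 1))).obj.obj (op V) := σ
    have hσ₀ : (((LocCohZ.sectSuppF U).map (I.cocomplex.d (j + 1) (j + 2))).hom.app (op V)).hom σ₀
        = 0 := hσ
    let σ' : ((LocCohZ.sectSuppF U).obj (I.cocomplex.X (j + 1))).obj.obj (op V') :=
      (((LocCohZ.sectSuppF U).obj (I.cocomplex.X (j + 1))).obj.map (homOfLE hV'V).op).hom σ₀
    have hσ' : (((LocCohZ.sectSuppF U).map (I.cocomplex.d (j + 1) (j + 2))).hom.app (op V')).hom σ'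
        = 0 := by
      have nat := ConcreteCategory.congr_hom
        (((LocCohZ.sectSuppF U).map (I.cocomplex.d (j + 1) (j + 2))).hom.naturality
          (homOfLE hV'V).op) σ₀
      refine nat.trans ?_
      change (((LocCohZ.sectSuppF U).obj (I.cocomplex.X (j + 2))).obj.map (homOfLE hV'V).op).hom
        ((((LocCohZ.sectSuppF U).map (I.cocomplex.d (j + 1) (j + 2))).hom.app (op V)).hom σ₀) = 0
      rw [hσ₀, map_zero]
    let φ := secEquiv U (I.cocomplex.X (j + 1)) V' σ'
    have hφ : φ ≫ I.cocomplex.d (j + 1) (j + 2) = 0 := by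
      rw [← secEquiv_naturality, hσ', map_zero]
    obtain ⟨ψ, hψ⟩ := (I.extMk_eq_zero_iff φ (j + 2) rfl hφ j rfl).1 (Subsingleton.elim _ _)
    refine ⟨(secEquiv U (I.cocomplex.X j) V').symm ψ, ?_⟩
    apply (secEquiv U (I.cocomplex.X (j + 1)) V').injective
    refine (secEquiv_naturality U (I.cocomplex.d j (j + 1)) V' _).trans ?_
    rw [AddEquiv.apply_symm_apply]
    exact hψ
  exact hex.isZero_homology

/-- If `H^i_{Z ∩ V}(V, F) = 0` for all `V` in a basis, then `ℋ^i_Z(F) = 0`. -/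
theorem isZero_HZsh_of_basis (B : Set (Opens X)) (hB : Opens.IsBasis B)
    (F : CohTop.Ab X) (i : ℕ)
    (h : ∀ V ∈ B, Subsingleton (LocCohZ.HZ F i (inf_le_left : V ⊓ U ≤ V))) :
    IsZero ((LocCohZ.HZsh U i).obj F) := by
  cases i with
  | zero =>
    refine HZsh_isZero_of_basis U B hB F 1 (fun V hV i hi => ?_) 0 Nat.one_pos
    obtain rfl : i = 0 := by omega
    exact h V hV
  | succ j => exact isZero_HZsh_succ_of_basis U B hB F j h

end Groth.Agent.H58.HZ
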