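import Groth.Agent.H58.HZ.DepthLC

/-!
# Depth and cohomology with supports over an affine open, II
-/

set_option autoImplicit false
set_option linter.style.haveILetI false
universe u
open CategoryTheory Limits TopologicalSpace Opposite Abelian AlgebraicGeometry

namespace Groth.Agent.H58.HZ

open Groth.Agent.H6.HartogsMod

/-- Bridge: over an affine open `W` of a locally Noetherian scheme, cohomology with supports in
`W ∖ U` of a quasi-coherent module is local cohomology of its module of sections. -/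
theorem exists_ideal_HZ_equiv (X : Scheme.{u}) [IsLocallyNoetherian X] (F : X.Modules)
    [F.IsQuasicoherent] (U W : X.Opens) (hW : IsAffineOpen W) :
    ∃ I : Ideal Γ(X, W),
      (∀ p : PrimeSpectrum Γ(X, W), I ≤ p.asIdeal ↔ hW.fromSpec p ∉ U) ∧
      ∀ i : ℕ, Nonempty (LocCohZ.HZ (Coh.toAb F) i (inf_le_left : W ⊓ U ≤ W) ≃+
        LocCoh.H I i Γ(F.restrict hW.fromSpec, ⊤)) := by
  haveI hN : IsNoetherianRing Γ(X, W) := IsLocallyNoetherian.component_noetherian ⟨W, hW⟩
  obtain ⟨fs, hfs⟩ := exists_list_punct_eq Γ(X, W) (hW.fromSpec ⁻¹ᵁ U)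
  refine ⟨Ideal.span {x : Γ(X, W) | x ∈ fs}, ?_, ?_⟩
  · intro p
    have h1 : hW.fromSpec p ∉ U ↔ p ∉ (Groth.Agent.H88.punct fs).1 := by
      rw [hfs]
      rfl
    rw [h1]
    show _ ↔ p ∉ (PrimeSpectrum.zeroLocus _)ᶜ
    rw [Set.notMem_compl_iff, PrimeSpectrum.mem_zeroLocus]
    rfl
  · intro i
    obtain ⟨e1⟩ := nonempty_HZ_equiv_HZM_restrict X F W hW U i
    rw [← hfs] at e1
    obtain ⟨e2⟩ := nonempty_HZM_equiv_localCohomology Γ(X, W) (F.restrict hW.fromSpec) fs i
    exact ⟨e1.trans e2⟩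

theorem forall_subsingleton_HZ_affine_iff (X : Scheme.{u}) [IsLocallyNoetherian X] (F : X.Modules)
    [F.IsQuasicoherent] [SheafOfModules.IsFiniteType (R := X.ringCatSheaf) F]
    (U W : X.Opens) (hW : IsAffineOpen W) (n : ℕ) :
    (∀ i : ℕ, i < n → Subsingleton (LocCohZ.HZ (Coh.toAb F) i (inf_le_left : W ⊓ U ≤ W))) ↔
      ∀ p : PrimeSpectrum Γ(X, W), hW.fromSpec p ∉ U →
        (n : ℕ∞) ≤ LocCoh.depth (X.presheaf.stalk (hW.fromSpec p))
          (F.presheaf.stalk (hW.fromSpec p)) := by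
  haveI hN : IsNoetherianRing Γ(X, W) := IsLocallyNoetherian.component_noetherian ⟨W, hW⟩
  haveI : Module.Finite Γ(X, W) Γ(F, W) := Groth.Agent.H44.finite_sections_of_isFiniteType F hW
  let G := F.restrict hW.fromSpec
  haveI : Module.Finite Γ(X, W) Γ(G, ⊤) :=
    Module.Finite.of_surjective (eN F hW).symm.toLinearMap (eN F hW).symm.surjective
  obtain ⟨I, hI, he⟩ := exists_ideal_HZ_equiv X F U W hW
  have h1 : (∀ i : ℕ, i < n → Subsingleton (LocCohZ.HZ (Coh.toAb F) i (inf_le_left : W ⊓ U ≤ W))) ↔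
      (∀ i : ℕ, i < n → Subsingleton (LocCoh.H I i Γ(G, ⊤))) := by
    refine forall₂_congr fun i _ => ?_
    obtain ⟨e⟩ := he i
    exact ⟨fun h => e.symm.injective.subsingleton, fun h => e.injective.subsingleton⟩
  rw [h1, forall_subsingleton_H_iff I Γ(G, ⊤) n,
    X26.idealDepth_eq_iInf_depth_localization I Γ(G, ⊤), le_iInf₂_iff]
  refine forall_congr' fun p => ?_
  rw [hI p, depth_stalk_fromSpec_eq X F W hW p Γ(G, ⊤) (eN F hW)]

end Groth.Agent.H58.HZ
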