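import Groth.Agent.H58.HZ.Affine
import Groth.Agent.H6.HartogsModConv

/-!
# Depth and cohomology with supports over an affine open

* `forall_subsingleton_H_iff`: for a finite module over a Noetherian ring,
  `H^i_I(M) = 0` for all `i < n` iff `n ≤ depth_I M`.
* `exists_list_punct_eq`: every open of `Spec R` (`R` Noetherian) is `D(f_1) ∪ … ∪ D(f_r)`.
* `forall_subsingleton_HZ_affine_iff`: for a coherent module `F` on a locally Noetherian scheme and an
  affine open `W`, `H^i_{W ∖ U}(W, F) = 0` for all `i < n` iff `depth F_x ≥ n` at all points of `W ∖ U`.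
-/

set_option autoImplicit false
set_option linter.style.haveILetI false
universe u
open CategoryTheory Limits TopologicalSpace Opposite Abelian AlgebraicGeometry

namespace Groth.Agent.H58.HZ

section Ring
variable {R : Type u} [CommRing R] [IsNoetherianRing R]

theorem forall_subsingleton_H_iff (I : Ideal R) (M : Type u) [AddCommGroup M] [Module R M]
    [Module.Finite R M] (n : ℕ) :
    (∀ i : ℕ, i < n → Subsingleton (LocCoh.H I i M)) ↔ (n : ℕ∞) ≤ LocCoh.idealDepth I M := by
  by_cases htop : I • (⊤ : Submodule R M) = ⊤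
  · rw [Groth.Agent.H58.DepthBasic.idealDepth_eq_top_of_smul_top_eq (I := I) (M := M) htop]
    simp only [le_top, iff_true]
    intro i _
    exact Groth.Agent.H6.HartogsMod.subsingleton_H_of_smul_top_eq_top I M htop i
  · constructor
    · intro h
      by_contra hlt
      rw [not_le] at hlt
      obtain ⟨t, ht⟩ := ENat.ne_top_iff_exists.mp (ne_top_of_lt hlt)
      have htn : t < n := by
        rw [← ht] at hlt
        exact_mod_cast hlt
      haveI := Groth.Agent.H58.LC.nontrivial_H_of_idealDepth_eq I M htop t ht.symm
      exact not_subsingleton _ (h t htn)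
    · intro h i hi
      refine Groth.Agent.H58.LC.subsingleton_H_of_lt_idealDepth I M htop i (lt_of_lt_of_le ?_ h)
      exact_mod_cast hi

theorem exists_list_punct_eq (R : CommRingCat.{u}) [IsNoetherianRing R] (U' : (Spec R).Opens) :
    ∃ fs : List R, Groth.Agent.H88.punct fs = U' := by
  let S : Set (PrimeSpectrum R) := U'.1
  have hVc : IsClosed Sᶜ := U'.2.isClosed_compl
  set I : Ideal R := PrimeSpectrum.vanishingIdeal Sᶜ with hI
  have hz : PrimeSpectrum.zeroLocus ((I : Ideal R) : Set R) = Sᶜ := by
    rw [hI, PrimeSpectrum.zeroLocus_vanishingIdeal_eq_closure, hVc.closure_eq]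
  obtain ⟨T, hT⟩ := (isNoetherianRing_iff_ideal_fg R).1 inferInstance I
  refine ⟨T.toList, ?_⟩
  apply TopologicalSpace.Opens.ext
  show (PrimeSpectrum.zeroLocus (R := R)
    ((Ideal.span {a : R | a ∈ T.toList} : Ideal R) : Set R))ᶜ = S
  have : {a : R | a ∈ T.toList} = (T : Set R) := by
    ext a
    simp
  rw [this, hT, hz, compl_compl]

end Ring

end Groth.Agent.H58.HZ
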