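import Groth.Agent.H58.HZ.DepthAffine
import Groth.Agent.H58.HZ.BasisOne
import Groth.Agent.H58.LCGV
import Groth.Agent.H58.LCFlat2

/-!
# Vanishing of `ℋ^i_Y(F)` above the dimensions of the local rings at the points of `Y`
-/

set_option autoImplicit false
set_option linter.style.haveILetI false
universe u
open CategoryTheory Limits TopologicalSpace Opposite Abelian AlgebraicGeometry TensorProduct

namespace Groth.Agent.H58.HZ

section Ring
variable {R : Type u} [CommRing R] [IsNoetherianRing R]

/-- `H^i_I(M) = 0` as soon as `dim R_p < i` for all primes `p ⊇ I`. -/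
theorem subsingleton_H_of_dim_localization_lt (I : Ideal R) (M : Type u) [AddCommGroup M]
    [Module R M] (i : ℕ)
    (h : ∀ (p : Ideal R) [p.IsPrime], I ≤ p →
      ringKrullDim (Localization.AtPrime p) < (i : WithBot ℕ∞)) :
    Subsingleton (LocCoh.H I i M) := by
  apply Module.subsingleton_of_localization_maximal
    (fun P _ => Localization.AtPrime P ⊗[R] LocCoh.H I i M)
    (fun P _ => TensorProduct.mk R (Localization.AtPrime P) (LocCoh.H I i M) 1)
  intro P hP
  obtain ⟨e⟩ := Groth.Agent.H58.LC.fbProp (R' := Localization.AtPrime P) I i M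
  suffices hs : Subsingleton (LocCoh.H (Ideal.map (algebraMap R (Localization.AtPrime P)) I) i
      (Localization.AtPrime P ⊗[R] M)) from e.injective.subsingleton
  by_cases hIP : I ≤ P
  · apply Groth.Agent.H58.LC.gv
    exact lt_of_le_of_lt (Module.supportDim_le_ringKrullDim _ _) (h P hIP)
  · have htop : Ideal.map (algebraMap R (Localization.AtPrime P)) I = ⊤ := by
      obtain ⟨x, hxI, hxP⟩ := Set.not_subset.1 hIP
      exact Ideal.eq_top_of_isUnit_mem _ (Ideal.mem_map_of_mem _ hxI)
        (IsLocalization.map_units (M := P.primeCompl) _ ⟨x, hxP⟩)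
    rw [htop]
    apply Groth.Agent.H58.LC.subsingleton_H_of_id_mem
    rw [Submodule.top_smul]
    trivial

end Ring

end Groth.Agent.H58.HZ
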