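import Groth.Agent.H58.HZ.Affine
import Groth.Agent.S6031
import Groth.Agent.H30.RestrOpen
import Groth.Prelude.Def_Wider

/-!
# `H^p(Spec R ∖ V(I), M~) ≅ H^{p+1}_I(M)` for `p ≥ 1` (`R` Noetherian)
-/

set_option autoImplicit false
set_option linter.style.haveILetI false
universe u
open CategoryTheory Limits TopologicalSpace Opposite Abelian AlgebraicGeometry

namespace Groth.Agent.H58.HZ

theorem cohomology_punctured (R : Type u) [CommRing R] [IsNoetherianRing R] (I : Ideal R)
    (M : Type u) [AddCommGroup M] [Module R M] (p : ℕ) (hp : 1 ≤ p) :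
    Nonempty (Coh.HH (↑(LocCoh.puncturedOpen R I))
      ((AlgebraicGeometry.tilde (R := CommRingCat.of R) (ModuleCat.of R M)).restrict
        (LocCoh.puncturedOpen R I).ι) p ≃+ LocCoh.H I (p + 1) M) := by
  let A : CommRingCat.{u} := CommRingCat.of R
  let N : ModuleCat.{u} A := ModuleCat.of R M
  let F : (Spec A).Modules := tilde N
  let U : (Spec A).Opens := LocCoh.puncturedOpen R I
  obtain ⟨e1⟩ := Groth.Agent.H30.RestrOpen.HU_equiv_H_restr (X := (Spec A).carrier) U
    (Coh.toAb F) p
  have hδ := (Groth.Agent.S6031.result (Spec A) F (inferInstance : F.IsQuasicoherent) U).2 p hp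
  let e2 := AddEquiv.ofBijective _ hδ
  obtain ⟨T, hT⟩ := (isNoetherianRing_iff_ideal_fg R).1 inferInstance I
  have hset : {a : A | a ∈ T.toList} = (T : Set R) := by
    ext a
    simp
  have hspan : Ideal.span {x : A | x ∈ T.toList} = I := by
    rw [hset]
    exact hT
  have hfs : Groth.Agent.H88.punct (R := A) T.toList = U := by
    apply TopologicalSpace.Opens.ext
    show (PrimeSpectrum.zeroLocus (R := A)
      ((Ideal.span {a : A | a ∈ T.toList} : Ideal A) : Set A))ᶜ = _
    rw [hspan]
    rfl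
  obtain ⟨e3⟩ := Groth.Agent.H88.IsSuppCohFamily.nonempty_addEquiv
    (Groth.Agent.H88.isSuppCohFamily_HZM A T.toList)
    (Groth.Agent.H88.isSuppCohFamily_extCech (R := A) T.toList) (p + 1) N
  obtain ⟨e4⟩ := Groth.Agent.H88.nonempty_extCechH_equiv_localCohomology (R := A) T.toList (p + 1) N
  rw [hfs] at e3
  rw [hspan] at e4
  exact ⟨e1.symm.trans (e2.trans (e3.trans e4.toAddEquiv))⟩

end Groth.Agent.H58.HZ
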