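import Groth.Agent.H58.HZ.Main6034
import Groth.Agent.H67.FreeNearFinite
import Groth.Agent.H71.QCoh.StalkFree
import Groth.Agent.H41.AcyclicLemma

/-!
# `Γ(X, ℋ^d_Y(M)) ≅ H^d_Y(X, M)` for `M` finite locally free and `depth_Y O_X ≥ d`
-/

set_option autoImplicit false
set_option linter.style.haveILetI false
universe u
open CategoryTheory Limits TopologicalSpace Opposite Abelian AlgebraicGeometry

namespace Groth.Agent.H58.HZ

open Groth.Agent.H30 Groth.Agent.H30.SectSuppV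

/-- changing the open of the pair along an equality -/
theorem nonempty_HZ_equiv_of_eq {X : TopCat.{u}} (F : CohTop.Ab X) (i : ℕ) {W W' V : Opens X}
    (h : W ≤ V) (h' : W' ≤ V) (e : W = W') :
    Nonempty (LocCohZ.HZ F i h ≃+ LocCohZ.HZ F i h') := by
  subst e
  exact ⟨AddEquiv.refl _⟩

/-- If `ℋ^i_Z(F) = 0` for `i < d` then `Γ(X, ℋ^d_Z(F)) ≅ H^d_Z(X, F)`. -/
theorem nonempty_sections_HZsh_equiv_HZc {X : TopCat.{u}} (U : Opens X) (F : CohTop.Ab X) (d : ℕ)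
    (h : ∀ i : ℕ, i < d → IsZero ((LocCohZ.HZsh U i).obj F)) :
    Nonempty (((LocCohZ.HZsh U d).obj F).obj.obj (op ⊤) ≃+ LocCohZ.HZc F d U) := by
  let _ : HasDerivedCategory.{u + 1} (CohTop.Ab X) := HasDerivedCategory.standard _
  let _ : HasDerivedCategory.{u + 1} AddCommGrpCat.{u} := HasDerivedCategory.standard _
  obtain ⟨e⟩ := nonempty_HZ_iso U ⊤ F d
  obtain ⟨e'⟩ := (Degenerate.lowDegree (LocCohZ.sectSuppF U)
    (preadditiveCoyoneda.obj (op (zV (⊤ : Opens X)))) (hT U ⊤) F d h).2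
  obtain ⟨e0⟩ := nonempty_HZ_equiv_of_eq F d (inf_le_left : ⊤ ⊓ U ≤ ⊤) (le_top : U ≤ ⊤) (top_inf_eq U)
  let e1 : LocCohZ.HZ F d (inf_le_left : ⊤ ⊓ U ≤ ⊤) ≃+
      (zV (⊤ : Opens X) ⟶ (LocCohZ.HZsh U d).obj F) := (e ≪≫ e').addCommGroupIsoToAddEquiv
  let e2 := CohFree.homEquivSect (Opens.grothendieckTopology X) ⊤ ((LocCohZ.HZsh U d).obj F)
  exact ⟨e2.symm.trans (e1.symm.trans e0)⟩

theorem nonempty_sections_HZsh_equiv_HZM (X : Scheme.{u}) [IsLocallyNoetherian X]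
    (U : X.Opens) (d : ℕ)
    (hdepth : ∀ x : ↥X, x ∉ (U : Set ↥X) →
      (d : ℕ∞) ≤ LocCoh.depth ↑(X.presheaf.stalk x) ↑(X.presheaf.stalk x))
    (M : X.Modules) (hM : FlatMod.IsFinLocFree M) :
    Nonempty (↑(((LocCohZ.HZsh (X := X.carrier) U d).obj (Coh.toAb M)).obj.obj (op ⊤)) ≃+
      LocCohZ.HZM X M d U) := by
  haveI hq : M.IsQuasicoherent :=
    Groth.Agent.H67.FreeNearFinite.isQuasicoherent_of_isFinLocFree M hM
  have hft : SheafOfModules.IsFiniteType (R := X.ringCatSheaf) M :=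
    Groth.Agent.H71.QCoh.isFiniteType_of_isFinLocFree M hM
  have hcoh : Coh.IsCoh M := ⟨hq, hft⟩
  have hd : ∀ x : X, x ∉ (U : Set X) →
      (d : ℕ∞) ≤ LocCoh.depth (X.presheaf.stalk x) (M.presheaf.stalk x) := by
    intro x hx
    haveI := Groth.Agent.H71.QCoh.free_stalks_of_isFinLocFree M hM x
    exact Groth.Agent.H41.AcyclicLemma.le_depth_of_free (A := X.presheaf.stalk x)
      (M.presheaf.stalk x) d (hdepth x hx)
  have hz := (HZsh_isZero_below_iff_depth X U M hcoh d).2 hd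
  exact nonempty_sections_HZsh_equiv_HZc (X := X.carrier) U (Coh.toAb M) d hz

end Groth.Agent.H58.HZ
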