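import Groth.Agent.H58.HZ.DepthAffine
import Groth.Agent.H58.HZ.BasisOne
import Groth.Prelude.Def_FlatMod2

/-!
# `ℋ^i_Y(F) = 0` for `i < n` iff `depth F_x ≥ n` on `Y` (coherent `F`, locally Noetherian `X`)
-/

set_option autoImplicit false
set_option linter.style.haveILetI false
universe u
open CategoryTheory Limits TopologicalSpace Opposite Abelian AlgebraicGeometry

namespace Groth.Agent.H58.HZ

theorem HZsh_isZero_below_iff_depth (X : Scheme.{u}) [IsLocallyNoetherian X] (U : X.Opens)
    (M : X.Modules) (hM : Coh.IsCoh M) (n : ℕ) :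
    (∀ i : ℕ, i < n → IsZero ((LocCohZ.HZsh (X := X.carrier) U i).obj (Coh.toAb M))) ↔
      ∀ x : X, x ∉ (U : Set X) →
        (n : ℕ∞) ≤ LocCoh.depth (X.presheaf.stalk x) (M.presheaf.stalk x) := by
  haveI : M.IsQuasicoherent := hM.1
  haveI : SheafOfModules.IsFiniteType (R := X.ringCatSheaf) M := hM.2
  constructor
  · intro h x hx
    let _ : HasDerivedCategory.{u + 1} (CohTop.Ab X.carrier) := HasDerivedCategory.standard _
    let _ : HasDerivedCategory.{u + 1} AddCommGrpCat.{u} := HasDerivedCategory.standard _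
    have h' := (Groth.Agent.H30.SectSuppV.HZsh_isZero_iff (X := X.carrier) U (Coh.toAb M) n).1 h
    obtain ⟨W, hW, hxW, -⟩ := exists_isAffineOpen_mem_and_subset (x := x) (U := ⊤) trivial
    have hx' : hW.fromSpec (hW.primeIdealOf ⟨x, hxW⟩) = x := hW.fromSpec_primeIdealOf ⟨x, hxW⟩
    have key := (forall_subsingleton_HZ_affine_iff X M U W hW n).1 (fun i hi => h' W i hi)
      (hW.primeIdealOf ⟨x, hxW⟩) (by rw [hx']; exact hx)
    rw [hx'] at key
    exact key
  · intro h
    refine HZsh_isZero_of_basis (X := X.carrier) U X.affineOpens X.isBasis_affineOpens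
      (Coh.toAb M) n (fun V hV => ?_)
    exact (forall_subsingleton_HZ_affine_iff X M U V hV n).2 (fun p hp => h _ hp)

end Groth.Agent.H58.HZ
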