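import Groth.Agent.H58.HZ.DimVanish

/-!
# `ℋ^i_Y(G) = 0` when `dim O_{X,x} < i` for all `x ∈ Y` (quasi-coherent `G`, locally Noetherian `X`)
-/

set_option autoImplicit false
set_option linter.style.haveILetI false
universe u
open CategoryTheory Limits TopologicalSpace Opposite Abelian AlgebraicGeometry TensorProduct

namespace Groth.Agent.H58.HZ

open Groth.Agent.H6.HartogsMod

/-- the local ring of `X` at the point of an affine open `W` given by a prime of `Γ(X, W)` has the
dimension of the localization. -/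
theorem ringKrullDim_stalk_fromSpec (X : Scheme.{u}) (W : X.Opens) (hW : IsAffineOpen W)
    (p : PrimeSpectrum Γ(X, W)) :
    ringKrullDim (X.presheaf.stalk (hW.fromSpec p)) =
      ringKrullDim (Localization.AtPrime p.asIdeal) := by
  have hxW : hW.fromSpec p ∈ W := Groth.Agent.H6.Hartogs.fromSpec_mem X W hW p
  letI : Algebra Γ(X, W) (X.presheaf.stalk (hW.fromSpec p)) :=
    TopCat.Presheaf.algebra_section_stalk X.presheaf ⟨hW.fromSpec p, hxW⟩
  haveI : IsLocalization.AtPrime (X.presheaf.stalk (hW.fromSpec p)) p.asIdeal :=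
    hW.isLocalization_stalk' p hxW
  let e : Localization.AtPrime p.asIdeal ≃ₐ[Γ(X, W)] X.presheaf.stalk (hW.fromSpec p) :=
    IsLocalization.algEquiv p.asIdeal.primeCompl _ _
  exact (ringKrullDim_eq_of_ringEquiv e.toRingEquiv).symm

theorem subsingleton_HZ_affine_of_dim_lt (X : Scheme.{u}) [IsLocallyNoetherian X] (G : X.Modules)
    [G.IsQuasicoherent] (U W : X.Opens) (hW : IsAffineOpen W) (i : ℕ)
    (hi : ∀ x : X, x ∉ (U : Set X) → ringKrullDim (X.presheaf.stalk x) < (i : WithBot ℕ∞)) :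
    Subsingleton (LocCohZ.HZ (Coh.toAb G) i (inf_le_left : W ⊓ U ≤ W)) := by
  haveI hN : IsNoetherianRing Γ(X, W) := IsLocallyNoetherian.component_noetherian ⟨W, hW⟩
  obtain ⟨I, hI, he⟩ := exists_ideal_HZ_equiv X G U W hW
  obtain ⟨e⟩ := he i
  suffices hs : Subsingleton (LocCoh.H I i Γ(G.restrict hW.fromSpec, ⊤)) from
    e.injective.subsingleton
  apply subsingleton_H_of_dim_localization_lt
  intro p hp hIp
  have h1 := (hI ⟨p, hp⟩).1 hIp
  have h2 := hi _ h1
  rwa [ringKrullDim_stalk_fromSpec X W hW ⟨p, hp⟩] at h2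

theorem isZero_HZsh_of_dim_lt (X : Scheme.{u}) [IsLocallyNoetherian X] (U : X.Opens)
    (G : X.Modules) (hG : Coh.IsCoh G) (i : ℕ)
    (hi : ∀ x : X, x ∉ (U : Set X) → ringKrullDim (X.presheaf.stalk x) < (i : WithBot ℕ∞)) :
    IsZero ((LocCohZ.HZsh (X := X.carrier) U i).obj (Coh.toAb G)) := by
  haveI : G.IsQuasicoherent := hG.1
  exact isZero_HZsh_of_basis (X := X.carrier) U X.affineOpens X.isBasis_affineOpens (Coh.toAb G) i
    (fun V hV => subsingleton_HZ_affine_of_dim_lt X G U V hV i hi)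

end Groth.Agent.H58.HZ
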