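import Groth.Agent.H58.HZ.Transport
import Groth.Agent.S6026
import Groth.Agent.H88.SuppCokernel

/-!
# Excision along an open embedding

For an open embedding `j : Y ⟶ X` with image the open `V`, opens `W ≤ V` and an abelian sheaf `F`
on `X`: `H^i_{V∖W}(V, F) ≅ H^i_{j⁻¹(V∖W)}(Y, F|_Y)`, where `F|_Y` is the restriction of `F` along `j`.
-/

set_option autoImplicit false
universe u
open CategoryTheory Limits TopologicalSpace Opposite Abelian

namespace Groth.Agent.H58.HZ

variable {X Y : TopCat.{u}} (j : Y ⟶ X) (hj : Topology.IsOpenEmbedding j)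

/-- restriction of abelian sheaves along an open embedding: `(F|_Y)(W) = F(j(W))`. -/
noncomputable def restrEmb : CohTop.Ab X ⥤ CohTop.Ab Y :=
  haveI := hj.functor_isContinuous
  hj.isOpenMap.functor.sheafPushforwardContinuous AddCommGrpCat.{u} _ _

variable (V : Opens X) (hV : Set.range j = (V : Set X))

/-- the homeomorphism `Y ≅ V` -/
noncomputable def homeoRange : Y ≅ TopCat.of V :=
  TopCat.isoOfHomeo ((hj.isEmbedding.toHomeomorph).trans (Homeomorph.setCongr hV))

theorem homeoRange_hom_coe (y : Y) : ((homeoRange j hj V hV).hom y : X) = j y := rfl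

/-- the two ways of mapping opens of `V` to opens of `X` agree -/
noncomputable def functorIso :
    Opens.map (homeoRange j hj V hV).hom ⋙ hj.isOpenMap.functor ≅
      V.isOpenEmbedding.isOpenMap.functor :=
  NatIso.ofComponents (fun W' => eqToIso (by
    apply Opens.ext
    ext x
    constructor
    · rintro ⟨y, hy, rfl⟩
      exact ⟨(homeoRange j hj V hV).hom y, hy, rfl⟩
    · rintro ⟨v, hv, rfl⟩
      obtain ⟨y, rfl⟩ := (TopCat.homeoOfIso (homeoRange j hj V hV)).surjective v
      exact ⟨y, hv, rfl⟩)) (by intros; apply Subsingleton.elim)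

/-- `h_*(F|_Y) ≅ F|_V` for the homeomorphism `h : Y ≅ V`. -/
noncomputable def pushRestrEmbIso (F : CohTop.Ab X) :
    (CohTop.push (homeoRange j hj V hV).hom).obj ((restrEmb j hj).obj F) ≅
      (CohTop.restrFunctor V).obj F :=
  ObjectProperty.isoMk _ (Functor.isoWhiskerRight (NatIso.op (functorIso j hj V hV).symm) F.obj)

theorem map_homeoRange_map_incl (W : Opens X) :
    (Opens.map (homeoRange j hj V hV).hom).obj ((Opens.map (CohCx.incl V)).obj W) =
      (Opens.map j).obj W := rfl

include hV in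
/-- **Excision along an open embedding.** -/
theorem nonempty_HZ_equiv_restrEmb (F : CohTop.Ab X) {W : Opens X} (h : W ≤ V) (i : ℕ) :
    Nonempty (LocCohZ.HZ F i h ≃+ LocCohZ.HZc ((restrEmb j hj).obj F) i ((Opens.map j).obj W)) := by
  obtain ⟨e, -⟩ := Groth.Agent.S6026.result h i
  obtain ⟨e2⟩ := Groth.Agent.H88.nonempty_ext_equiv_of_iso
    (LocCohZ.zq (le_top : (Opens.map (CohCx.incl V)).obj W ≤ ⊤))
    (pushRestrEmbIso j hj V hV F).symm i
  obtain ⟨e3⟩ := nonempty_HZc_equiv_push_iso (homeoRange j hj V hV)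
    ((Opens.map (CohCx.incl V)).obj W) ((restrEmb j hj).obj F) i
  exact ⟨(e F).trans (e2.trans e3.symm)⟩

end Groth.Agent.H58.HZ
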