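import Groth.Agent.H30.SuppPush
import Groth.Agent.H30.ExtRD
import Groth.Agent.H30.DerivedComp
import Groth.Agent.H30.GrothSSExt

/-!
# Transport of cohomology with supports along a continuous map with exact direct image

If `f : X ⟶ Y` is continuous, `f_*` is exact and preserves injectives (e.g. `f` a homeomorphism),
then `H^i_{f⁻¹ Z}(X, F) ≅ H^i_Z(Y, f_* F)`, naturally in `F`.
-/

set_option autoImplicit false
universe u
open CategoryTheory Limits TopologicalSpace Opposite Abelian

namespace Groth.Agent.H58.HZ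

open Groth.Agent.H30

section General

variable {X Y : TopCat.{u}} (f : X ⟶ Y) [PreservesFiniteColimits (CohTop.push f)]
  [PreservesFiniteLimits (CohTop.push f)]
  (hT : ∀ Q : CohTop.Ab X, Injective Q → Injective ((CohTop.push f).obj Q)) (V : Opens Y)

/-- `Ext^i(ℤ_X/ℤ_{f⁻¹V}, -) ≅ f_* ⋙ Ext^i(ℤ_Y/ℤ_V, -)`. -/
noncomputable def extIsoPush (i : ℕ) :
    (extFunctor.{u} i).obj (op (LocCohZ.zq (le_top : (Opens.map f).obj V ≤ ⊤))) ≅
      CohTop.push f ⋙ (extFunctor.{u} i).obj (op (LocCohZ.zq (le_top : V ≤ ⊤))) :=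
  (ExtRD.rightDerivedIsoExt (LocCohZ.zq (le_top : (Opens.map f).obj V ≤ ⊤)) i).symm ≪≫
    GrothSSExt.rightDerivedIsoOfIso (SuppPush.τ f V).symm i ≪≫
    DerivedComp.rightDerivedCompIso (CohTop.push f) hT
      (ExtRD.hM (LocCohZ.zq (le_top : V ≤ ⊤))) i ≪≫
    Functor.isoWhiskerLeft (CohTop.push f)
      (ExtRD.rightDerivedIsoExt (LocCohZ.zq (le_top : V ≤ ⊤)) i)

include hT in
theorem nonempty_HZc_equiv_push (F : CohTop.Ab X) (i : ℕ) :
    Nonempty (LocCohZ.HZc F i ((Opens.map f).obj V) ≃+
      LocCohZ.HZc ((CohTop.push f).obj F) i V) :=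
  ⟨((extIsoPush f hT V i).app F).addCommGroupIsoToAddEquiv⟩

end General

end Groth.Agent.H58.HZ

namespace Groth.Agent.H58.HZ

open Groth.Agent.H30

section Iso

variable {X Y : TopCat.{u}} (H : X ≅ Y)

/-- `H_* ⊣ (H⁻¹)_*` on abelian sheaves, for a homeomorphism `H`. -/
noncomputable def pushAdj : CohTop.push H.hom ⊣ CohTop.push H.inv :=
  (TopCat.Presheaf.presheafEquivOfIso AddCommGrpCat.{u} H).toAdjunction.restrictFullyFaithful
    (fullyFaithfulSheafToPresheaf _ _) (fullyFaithfulSheafToPresheaf _ _)
    (Iso.refl _) (Iso.refl _)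

theorem preservesFiniteColimits_push_iso : PreservesFiniteColimits (CohTop.push H.hom) := by
  haveI := (pushAdj H).leftAdjoint_preservesColimits
  infer_instance

theorem preservesFiniteLimits_push_iso : PreservesFiniteLimits (CohTop.push H.hom) := by
  haveI := (pushAdj H.symm).rightAdjoint_preservesLimits
  exact (inferInstance : PreservesFiniteLimits (CohTop.push H.symm.inv))

theorem injective_push_iso (Q : CohTop.Ab X) (hQ : Injective Q) :
    Injective ((CohTop.push H.hom).obj Q) := by
  haveI : (CohTop.push H.symm.hom).PreservesMonomorphisms := by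
    haveI := (pushAdj H).rightAdjoint_preservesLimits
    exact (inferInstance : (CohTop.push H.inv).PreservesMonomorphisms)
  haveI : (CohTop.push H.symm.inv).PreservesInjectiveObjects :=
    Functor.preservesInjectiveObjects_of_adjunction_of_preservesMonomorphisms (pushAdj H.symm)
  exact (CohTop.push H.symm.inv).injective_obj Q

/-- Cohomology with supports is invariant under homeomorphisms. -/
theorem nonempty_HZc_equiv_push_iso (V : Opens Y) (F : CohTop.Ab X) (i : ℕ) :
    Nonempty (LocCohZ.HZc F i ((Opens.map H.hom).obj V) ≃+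
      LocCohZ.HZc ((CohTop.push H.hom).obj F) i V) := by
  haveI := preservesFiniteColimits_push_iso H
  haveI := preservesFiniteLimits_push_iso H
  exact nonempty_HZc_equiv_push H.hom (fun Q hQ => injective_push_iso H Q hQ) V F i

end Iso

end Groth.Agent.H58.HZ
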